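import Groth.Agent.DelIll.K776.RFamI

/-!
# Length over an artinian local ring and dimension over a coefficient field
-/

set_option autoImplicit false
universe u

namespace K761.Len

theorem length_simple {A : Type u} [CommRing A] [IsLocalRing A] {k : Type u} [Field k] [Algebra k A]
    (hk : Function.Bijective ((IsLocalRing.residue A).comp (algebraMap k A)))
    (M : Type u) [AddCommGroup M] [Module A M] [Module k M] [IsScalarTower k A M] [IsSimpleModule A M] :
    Module.length k M = 1 := by
  rw [Module.length_eq_one_iff]
  have : Nontrivial M := IsSimpleModule.nontrivial A M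
  obtain ⟨x, hx⟩ := exists_ne (0 : M)
  have hmax : (Module.annihilator A M).IsMaximal := IsSimpleModule.annihilator_isMaximal
  have hann : Module.annihilator A M = IsLocalRing.maximalIdeal A := IsLocalRing.eq_maximalIdeal hmax
  have hspan : Submodule.span A {x} = ⊤ := IsSimpleModule.span_singleton_eq_top A hx
  have key : ∀ y : M, ∃ c : k, c • x = y := fun y => by
    have hy : y ∈ Submodule.span A {x} := hspan ▸ Submodule.mem_top
    obtain ⟨a, rfl⟩ := Submodule.mem_span_singleton.mp hy
    obtain ⟨c, hc⟩ := hk.2 (IsLocalRing.residue A a)
    refine ⟨c, ?_⟩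
    have h0 : IsLocalRing.residue A (algebraMap k A c - a) = 0 := by
      rw [map_sub, sub_eq_zero]; exact hc
    have h1 : algebraMap k A c - a ∈ Module.annihilator A M := by
      rw [hann]; exact (IsLocalRing.residue_eq_zero_iff _).mp h0
    have h2 := Module.mem_annihilator.mp h1 x
    rw [sub_smul, sub_eq_zero, algebraMap_smul] at h2
    exact h2
  have hfr : Module.finrank k M = 1 := finrank_eq_one x hx key
  have : Module.Finite k M := Module.finite_of_finrank_eq_succ hfr
  rw [← Module.length_eq_one_iff, Module.length_eq_finrank, hfr, Nat.cast_one]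

theorem length_eq {A : Type u} [CommRing A] [IsLocalRing A] {k : Type u} [Field k] [Algebra k A]
    (hk : Function.Bijective ((IsLocalRing.residue A).comp (algebraMap k A)))
    (M : Type u) [AddCommGroup M] [Module A M] (h : IsFiniteLength A M) :
    ∀ [Module k M] [IsScalarTower k A M],
      IsFiniteLength k M ∧ Module.length A M = Module.length k M := by
  induction h with
  | of_subsingleton =>
    intro _ _
    exact ⟨.of_subsingleton, by rw [Module.length_eq_zero, Module.length_eq_zero]⟩
  | @of_simple_quotient M _ _ N _ hN ih =>
    intro _ _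
    obtain ⟨h1, h2⟩ := @ih _ _
    have hA := Module.length_eq_add_of_exact N.subtype N.mkQ N.subtype_injective N.mkQ_surjective
      (LinearMap.exact_subtype_mkQ N)
    have hK := Module.length_eq_add_of_exact (R := k) (N.subtype.restrictScalars k)
      (N.mkQ.restrictScalars k) N.subtype_injective N.mkQ_surjective
      (fun x => LinearMap.exact_subtype_mkQ N x)
    have e1 : Module.length k (M ⧸ N) = 1 := length_simple hk (M ⧸ N)
    have e2 : Module.length A (M ⧸ N) = 1 := Module.length_eq_one A (M ⧸ N)
    rw [e2] at hA
    rw [e1] at hK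
    refine ⟨?_, by rw [hA, hK, h2]⟩
    rw [← Module.length_ne_top_iff, hK]
    rw [← Module.length_ne_top_iff] at h1
    simpa using h1

theorem main : K776.RCh.LenStmt.{u} := by
  intro A _ _ _ k _ κ hk M _ _ _
  let : Algebra k A := κ.toAlgebra
  let : Module k M := Module.compHom M κ
  have : IsScalarTower k A M := IsScalarTower.of_algebraMap_smul fun _ _ => rfl
  have hfl : IsFiniteLength A M :=
    isFiniteLength_iff_isNoetherian_isArtinian.mpr ⟨inferInstance, inferInstance⟩
  obtain ⟨h1, h2⟩ := length_eq (k := k) hk M hfl
  obtain ⟨h3, h4⟩ := isFiniteLength_iff_isNoetherian_isArtinian.mp h1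
  refine ⟨inferInstance, ?_⟩
  rw [h2]
  exact Module.length_eq_finrank k M

end K761.Len
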